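import Groth.Agent.H23.AMonExt
import Mathlib.LinearAlgebra.TensorProduct.Basis
import Mathlib.LinearAlgebra.TensorProduct.RightExactness
import Mathlib.LinearAlgebra.Dimension.Free

/-!
# Extending orbit maps to a monoid, over a field: the affine case

For `G ⟶ M` schematically dominant between affine schemes over a field and an action of `G` on an affine scheme `X`,
the points of `X` whose orbit map extends to `M` form a closed subscheme.
-/

set_option autoImplicit false
set_option linter.style.haveILetI false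

universe u

open CategoryTheory CategoryTheory.Limits MonoidalCategory CartesianMonoidalCategory MonObj AlgebraicGeometry
open Opposite Magnet TensorProduct

namespace Groth.Agent.MagnetLib.MonExt

variable {k : Type u} [Field k]

/-- The spectrum of an algebra over the field. -/
noncomputable abbrev Ob (B : Type u) [CommRing B] [Algebra k B] : Over (Spec (CommRingCat.of k)) :=
  Over.mk (Spec.map (CommRingCat.ofHom (algebraMap k B)))

/-- The morphism of spectra of an algebra map. -/
noncomputable def obMap {B C : Type u} [CommRing B] [CommRing C] [Algebra k B] [Algebra k C] (f : C →ₐ[k] B) :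
    Ob (k := k) B ⟶ Ob (k := k) C :=
  Over.homMk (Spec.map (CommRingCat.ofHom f.toRingHom)) (by
    show Spec.map _ ≫ Spec.map _ = Spec.map _
    rw [← Spec.map_comp, ← CommRingCat.ofHom_comp]
    congr 2
    exact f.comp_algebraMap)

/-- The product of two spectra. -/
noncomputable abbrev prIso (B C : Type u) [CommRing B] [CommRing C] [Algebra k B] [Algebra k C] :
    (Ob (k := k) B ⊗ Ob (k := k) C).left ≅ Spec (CommRingCat.of (B ⊗[k] C)) :=
  pullbackSpecIso k B C

theorem exists_algHom {B C : Type u} [CommRing B] [CommRing C] [Algebra k B] [Algebra k C]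
    (f : Ob (k := k) B ⟶ Ob (k := k) C) : ∃ g : C →ₐ[k] B, obMap g = f := by
  refine ⟨{ (Spec.preimage f.left).hom with commutes' := fun r => ?_ }, Over.OverMorphism.ext (Spec.map_preimage _)⟩
  have h : CommRingCat.ofHom (algebraMap k C) ≫ Spec.preimage f.left = CommRingCat.ofHom (algebraMap k B) :=
    Spec.map_injective (by rw [Spec.map_comp, Spec.map_preimage]; exact Over.w f)
  exact ConcreteCategory.congr_hom h r

theorem exists_iso_ob (T : Over (Spec (CommRingCat.of k))) [IsAffine T.left] :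
    ∃ (R : Type u) (_ : CommRing R) (_ : Algebra k R), Nonempty (T ≅ Ob (k := k) R) := by
  let q := Spec.preimage (T.left.isoSpec.inv ≫ T.hom)
  letI : Algebra k Γ(T.left, ⊤) := q.hom.toAlgebra
  refine ⟨Γ(T.left, ⊤), inferInstance, inferInstance, ⟨Over.isoMk T.left.isoSpec ?_⟩⟩
  show T.left.isoSpec.hom ≫ Spec.map q = T.hom
  rw [Spec.map_preimage, Iso.hom_inv_id_assoc]

theorem whiskerRight_left {B H R : Type u} [CommRing B] [CommRing H] [CommRing R] [Algebra k B] [Algebra k H]
    [Algebra k R] (f : B →ₐ[k] H) :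
    (prIso H R).inv ≫ (obMap f ▷ Ob (k := k) R).left =
      Spec.map (CommRingCat.ofHom (Algebra.TensorProduct.map f (AlgHom.id k R)).toRingHom) ≫ (prIso B R).inv := by
  apply pullback.hom_ext
  · rw [Category.assoc, Category.assoc]
    erw [pullbackSpecIso_inv_fst]
    erw [Over.whiskerRight_left_fst]
    rw [← Category.assoc]
    erw [pullbackSpecIso_inv_fst]
    show Spec.map _ ≫ Spec.map _ = _
    rw [← Spec.map_comp, ← Spec.map_comp]
    congr 1
  · rw [Category.assoc, Category.assoc]
    erw [pullbackSpecIso_inv_snd]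
    erw [Over.whiskerRight_left_snd, pullbackSpecIso_inv_snd]
    rw [← Spec.map_comp]
    congr 1
    ext r
    simp

theorem whiskerLeft_left {H R A : Type u} [CommRing H] [CommRing R] [CommRing A] [Algebra k H]
    [Algebra k R] [Algebra k A] (f : A →ₐ[k] R) :
    (prIso H R).inv ≫ (Ob (k := k) H ◁ obMap f).left =
      Spec.map (CommRingCat.ofHom (Algebra.TensorProduct.map (AlgHom.id k H) f).toRingHom) ≫ (prIso H A).inv := by
  apply pullback.hom_ext
  · rw [Category.assoc, Category.assoc]
    erw [pullbackSpecIso_inv_fst]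
    erw [Over.whiskerLeft_left_fst, pullbackSpecIso_inv_fst]
    rw [← Spec.map_comp]
    congr 1
    ext b
    simp
  · rw [Category.assoc, Category.assoc]
    erw [pullbackSpecIso_inv_snd]
    erw [Over.whiskerLeft_left_snd]
    rw [← Category.assoc]
    erw [pullbackSpecIso_inv_snd]
    show Spec.map _ ≫ Spec.map _ = _
    rw [← Spec.map_comp, ← Spec.map_comp]
    congr 1

/-- The points whose orbit map extends: an ideal. -/
theorem exists_ideal {B H A : Type u} [CommRing B] [CommRing H] [CommRing A] [Algebra k B] [Algebra k H]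
    [Algebra k A] (f : B →ₐ[k] H) (hf : Function.Injective f) (ω : Ob (k := k) H ⊗ Ob (k := k) A ⟶ Ob (k := k) A) :
    ∃ I : Ideal A, ∀ (R : Type u) [CommRing R] [Algebra k R] (χ : A →ₐ[k] R),
      (∃ φ : Ob (k := k) B ⊗ Ob (k := k) R ⟶ Ob (k := k) A, (obMap f ▷ Ob (k := k) R) ≫ φ = (Ob (k := k) H ◁ obMap χ) ≫ ω) ↔
        I ≤ RingHom.ker χ := by
  classical
  let ρ : A →+* H ⊗[k] A := (Spec.preimage ((prIso H A).inv ≫ ω.left)).hom
  have hρ : Spec.map (CommRingCat.ofHom ρ) = (prIso H A).inv ≫ ω.left := Spec.map_preimage _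
  let Q := H ⧸ LinearMap.range f.toLinearMap
  let q : H →ₗ[k] Q := (LinearMap.range f.toLinearMap).mkQ
  let b := Module.Free.chooseBasis k Q
  let crd : ∀ (R : Type u) [CommRing R] [Algebra k R], H ⊗[k] R →ₗ[k] (_ →₀ R) := fun R _ _ =>
    (TensorProduct.equivFinsuppOfBasisLeft b).toLinearMap ∘ₗ q.rTensor R
  refine ⟨Ideal.span {x | ∃ a i, crd A (ρ a) i = x}, fun R _ _ χ => ?_⟩
  let mR := Algebra.TensorProduct.map f (AlgHom.id k R)
  let χH := Algebra.TensorProduct.map (AlgHom.id k H) χ
  have hnat : ∀ (z : H ⊗[k] A) i, crd R (χH z) i = χ (crd A z i) := fun z i => by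
    induction z with
    | zero => simp
    | tmul h a =>
      simp only [χH, crd, Algebra.TensorProduct.map_tmul, LinearMap.comp_apply, LinearMap.rTensor_tmul, AlgHom.coe_id,
        id_eq, LinearEquiv.coe_coe, TensorProduct.equivFinsuppOfBasisLeft_apply_tmul_apply, map_smul]
    | add x y hx hy => simp only [map_add, Finsupp.add_apply, hx, hy]
  have hker : ∀ z : H ⊗[k] R, (∃ y, mR y = z) ↔ ∀ i, crd R z i = 0 := fun z => by
    have hex := rTensor_exact R (LinearMap.exact_map_mkQ_range f.toLinearMap) (Submodule.mkQ_surjective _) z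
    rw [show (∀ i, crd R z i = 0) ↔ q.rTensor R z = 0 from
      ⟨fun h => (TensorProduct.equivFinsuppOfBasisLeft b).injective (by
        rw [map_zero]; exact Finsupp.ext h), fun h i => by simp [crd, h]⟩]
    exact ⟨fun ⟨y, hy⟩ => hex.mpr ⟨y, hy⟩, fun h => hex.mp h⟩
  have hinj : Function.Injective mR :=
    Module.Flat.rTensor_preserves_injective_linearMap (M := R) f.toLinearMap hf
  have hgoal : (Ob (k := k) H ◁ obMap χ) ≫ ω = (Ob (k := k) H ◁ obMap χ) ≫ ω := rfl
  have horb : (prIso H R).inv ≫ ((Ob (k := k) H ◁ obMap χ) ≫ ω).left =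
      Spec.map (CommRingCat.ofHom (χH.toRingHom.comp ρ)) := by
    rw [Over.comp_left, ← Category.assoc, whiskerLeft_left, Category.assoc, ← hρ, ← Spec.map_comp, ← CommRingCat.ofHom_comp]
  constructor
  · rintro ⟨φ, hφ⟩
    rw [Ideal.span_le]
    rintro _ ⟨a, i, rfl⟩
    let ψ : A →+* B ⊗[k] R := (Spec.preimage ((prIso B R).inv ≫ φ.left)).hom
    have hψ : mR.toRingHom.comp ψ = χH.toRingHom.comp ρ := by
      have h1 : Spec.map (CommRingCat.ofHom (mR.toRingHom.comp ψ)) = Spec.map (CommRingCat.ofHom (χH.toRingHom.comp ρ)) := by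
        rw [← horb, ← hφ, Over.comp_left, ← Category.assoc, whiskerRight_left, Category.assoc, CommRingCat.ofHom_comp,
          Spec.map_comp]
        exact congrArg (_ ≫ ·) (Spec.map_preimage _)
      exact congrArg CommRingCat.Hom.hom (Spec.map_injective h1)
    show χ (crd A (ρ a) i) = 0
    rw [← hnat]
    exact (hker _).mp ⟨ψ a, RingHom.congr_fun hψ a⟩ i
  · intro hI
    have h : ∀ a, ∃ y, mR y = χH (ρ a) := fun a => (hker _).mpr fun i => by
      rw [hnat]
      exact hI (Ideal.subset_span ⟨a, i, rfl⟩)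
    choose ψ hψ using h
    let ψh : A →+* B ⊗[k] R :=
      { toFun := ψ
        map_one' := hinj (by rw [hψ, map_one, map_one, map_one])
        map_mul' := fun x y => hinj (by rw [hψ, map_mul ρ, map_mul χH, map_mul mR, hψ, hψ])
        map_zero' := hinj (by rw [hψ, map_zero, map_zero, map_zero])
        map_add' := fun x y => hinj (by rw [hψ, map_add ρ, map_add χH, map_add mR, hψ, hψ]) }
    have hψρ : mR.toRingHom.comp ψh = χH.toRingHom.comp ρ := RingHom.ext hψ
    have key : (obMap f ▷ Ob (k := k) R).left ≫ (prIso B R).hom ≫ Spec.map (CommRingCat.ofHom ψh) =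
        ((Ob (k := k) H ◁ obMap χ) ≫ ω).left := by
      rw [← cancel_epi (prIso H R).inv, horb, ← hψρ, ← Category.assoc, whiskerRight_left, Category.assoc,
        Iso.inv_hom_id_assoc, CommRingCat.ofHom_comp, Spec.map_comp]
    have hcomm : ∀ r, ψh (algebraMap k A r) = algebraMap k _ r := fun r => hinj (by
      refine (RingHom.congr_fun hψρ (algebraMap k A r)).trans ?_
      have h2 : CommRingCat.ofHom (algebraMap k A) ≫ CommRingCat.ofHom ρ = CommRingCat.ofHom (algebraMap k (H ⊗[k] A)) := by
        apply Spec.map_injective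
        rw [Spec.map_comp, hρ, Category.assoc]
        refine (congrArg (_ ≫ ·) (Over.w ω)).trans ?_
        show (prIso H A).inv ≫ pullback.fst _ _ ≫ Spec.map _ = _
        erw [pullbackSpecIso_inv_fst_assoc]
        rw [← Spec.map_comp]
        congr 1
      show χH (ρ (algebraMap k A r)) = mR (algebraMap k _ r)
      rw [show ρ (algebraMap k A r) = algebraMap k _ r from ConcreteCategory.congr_hom h2 r, AlgHom.commutes,
        AlgHom.commutes])
    refine ⟨Over.homMk ((prIso B R).hom ≫ Spec.map (CommRingCat.ofHom ψh)) ?_, Over.OverMorphism.ext key⟩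
    show ((prIso B R).hom ≫ Spec.map _) ≫ Spec.map _ = pullback.fst _ _ ≫ Spec.map _
    rw [Category.assoc, ← Spec.map_comp, ← CommRingCat.ofHom_comp,
      show ψh.comp (algebraMap k A) = algebraMap k _ from RingHom.ext hcomm,
      show pullback.fst _ _ = (prIso B R).hom ≫ Spec.map (CommRingCat.ofHom Algebra.TensorProduct.includeLeftRingHom) from
        (pullbackSpecIso_hom_fst k B R).symm, Category.assoc, ← Spec.map_comp]
    rfl

variable {M G X : Over (Spec (CommRingCat.of k))}

/-- An affine scheme with an action: the points whose orbit map extends form a closed subscheme. -/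
theorem exists_closed [IsAffine M.left] [IsAffine G.left] [IsAffine X.left] (i : G ⟶ M)
    [IsSchemeTheoreticallyDominant i.left] (ω : G ⊗ X ⟶ X) :
    ∃ (Z : Over (Spec (CommRingCat.of k))) (j : Z ⟶ X), IsClosedImmersion j.left ∧
      ∀ (T : Over (Spec (CommRingCat.of k))) (x : T ⟶ X),
        (∃ φ : M ⊗ T ⟶ X, (i ▷ T) ≫ φ = (G ◁ x) ≫ ω) ↔ ∃ z, z ≫ j = x := by
  obtain ⟨B, _, _, ⟨eM⟩⟩ := exists_iso_ob M
  obtain ⟨H, _, _, ⟨eG⟩⟩ := exists_iso_ob G
  obtain ⟨A, _, _, ⟨eX⟩⟩ := exists_iso_ob X
  obtain ⟨f, hf⟩ := exists_algHom (eG.inv ≫ i ≫ eM.hom)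
  haveI : IsIso eG.inv.left := ((Over.forget _).mapIso eG.symm).isIso_hom
  haveI : IsIso eM.hom.left := ((Over.forget _).mapIso eM).isIso_hom
  have hfinj : Function.Injective f := by
    haveI : IsSchemeTheoreticallyDominant (Spec.map (CommRingCat.ofHom f.toRingHom)) := by
      rw [show Spec.map (CommRingCat.ofHom f.toRingHom) = eG.inv.left ≫ i.left ≫ eM.hom.left from
        congrArg Over.Hom.left hf]
      infer_instance
    have h := (Spec.map (CommRingCat.ofHom f.toRingHom)).ker_eq_bot
    have h2 : RingHom.ker (Spec.map (CommRingCat.ofHom f.toRingHom)).appTop.hom = ⊥ := by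
      have h3 := congrArg (fun I : Scheme.IdealSheafData _ => I.ideal ⟨⊤, isAffineOpen_top _⟩) h
      simp [Scheme.Hom.ker_apply] at h3
      exact h3
    intro x y hxy
    apply (ConcreteCategory.bijective_of_isIso (Scheme.ΓSpecIso (CommRingCat.of B)).inv).1
    apply (RingHom.injective_iff_ker_eq_bot _).mpr h2
    rw [← CommRingCat.comp_apply, ← CommRingCat.comp_apply, ← Scheme.ΓSpecIso_inv_naturality, CommRingCat.comp_apply,
      CommRingCat.comp_apply]
    exact congrArg _ hxy
  obtain ⟨I, hI⟩ := exists_ideal f hfinj ((eG.inv ⊗ₘ eX.inv) ≫ ω ≫ eX.hom)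
  let Z : Over (Spec (CommRingCat.of k)) := Ob (k := k) (A ⧸ I)
  let jA : Z ⟶ Ob (k := k) A := obMap (Ideal.Quotient.mkₐ k I)
  haveI : IsClosedImmersion jA.left :=
    IsClosedImmersion.spec_of_surjective (CommRingCat.ofHom (Ideal.Quotient.mk I)) Ideal.Quotient.mk_surjective
  haveI : IsIso eX.inv.left := ((Over.forget _).mapIso eX.symm).isIso_hom
  let j : Z ⟶ X := jA ≫ eX.inv
  haveI : IsClosedImmersion j.left := inferInstanceAs (IsClosedImmersion (jA.left ≫ eX.inv.left))
  -- the criterion for affine test schemes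
  have haff : ∀ (T : Over (Spec (CommRingCat.of k))) [IsAffine T.left] (x : T ⟶ X),
      (∃ φ : M ⊗ T ⟶ X, (i ▷ T) ≫ φ = (G ◁ x) ≫ ω) ↔ ∃ z, z ≫ j = x := by
    intro T _ x
    obtain ⟨R, _, _, ⟨eT⟩⟩ := exists_iso_ob T
    obtain ⟨χ, hχ⟩ := exists_algHom (eT.inv ≫ x ≫ eX.hom)
    have e1 : (obMap f ▷ Ob (k := k) R) = (eG.inv ⊗ₘ eT.inv) ≫ (i ▷ T) ≫ (eM.hom ⊗ₘ eT.hom) := by
      rw [hf]
      apply CartesianMonoidalCategory.hom_ext <;> simp
    have e2 : (Ob (k := k) H ◁ obMap χ) ≫ (eG.inv ⊗ₘ eX.inv) ≫ ω ≫ eX.hom =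
        (eG.inv ⊗ₘ eT.inv) ≫ (G ◁ x) ≫ ω ≫ eX.hom := by
      rw [hχ, ← Category.assoc, ← Category.assoc (eG.inv ⊗ₘ eT.inv)]
      congr 1
      apply CartesianMonoidalCategory.hom_ext <;> simp
    refine Iff.trans ?_ ((hI R χ).trans ?_)
    · constructor
      · rintro ⟨φ, hφ⟩
        refine ⟨(eM.inv ⊗ₘ eT.inv) ≫ φ ≫ eX.hom, ?_⟩
        rw [e1, e2]
        simp [reassoc_of% hφ]
      · rintro ⟨φ, hφ⟩
        refine ⟨(eM.hom ⊗ₘ eT.hom) ≫ φ ≫ eX.inv, ?_⟩
        rw [e1, e2] at hφ
        simp only [Category.assoc, cancel_epi] at hφ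
        rw [← cancel_mono eX.hom, Category.assoc, Category.assoc, Category.assoc, Iso.inv_hom_id, Category.comp_id, hφ]
        simp
    · constructor
      · intro hle
        refine ⟨eT.hom ≫ obMap (Ideal.Quotient.liftₐ I χ fun a ha => hle ha), ?_⟩
        have h0 : obMap (Ideal.Quotient.liftₐ I χ fun a ha => hle ha) ≫ jA = obMap χ := Over.OverMorphism.ext (by
          show Spec.map _ ≫ Spec.map _ = Spec.map _
          rw [← Spec.map_comp]
          congr 1)
        show (eT.hom ≫ _) ≫ jA ≫ eX.inv = x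
        rw [Category.assoc, reassoc_of% h0, hχ]
        simp
      · rintro ⟨z, rfl⟩ a ha
        obtain ⟨ζ, hζ⟩ := exists_algHom (eT.inv ≫ z)
        have h0 : obMap χ = obMap ζ ≫ jA := by
          rw [hχ, hζ]
          simp [j]
        have h1 := Spec.map_injective ((congrArg Over.Hom.left h0).trans (Spec.map_comp _ _).symm)
        show χ a = 0
        rw [show χ a = ζ (Ideal.Quotient.mk I a) from ConcreteCategory.congr_hom h1 a,
          Ideal.Quotient.eq_zero_iff_mem.mpr ha, map_zero]
  refine ⟨Z, j, inferInstance, fun T x => ⟨fun ⟨φ, hφ⟩ => ?_, fun ⟨z, hz⟩ => ?_⟩⟩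
  · haveI : IsIso (pullback.fst x.left j.left) := by
      show MorphismProperty.isomorphisms Scheme.{u} _
      refine IsZariskiLocalAtTarget.of_openCover (P := MorphismProperty.isomorphisms Scheme.{u}) T.left.affineCover fun c => ?_
      let T' : Over (Spec (CommRingCat.of k)) := Over.mk (T.left.affineCover.f c ≫ T.hom)
      haveI : IsAffine T'.left := inferInstanceAs (IsAffine (T.left.affineCover.X c))
      let v : T' ⟶ T := Over.homMk (T.left.affineCover.f c) rfl
      obtain ⟨z, hz⟩ := (haff T' (v ≫ x)).mp ⟨(M ◁ v) ≫ φ, by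
        rw [← whisker_exchange_assoc, hφ, ← MonoidalCategory.whiskerLeft_comp_assoc]⟩
      show IsIso _
      haveI : IsClosedImmersion (Scheme.Cover.pullbackHom T.left.affineCover (pullback.fst x.left j.left) c) :=
        inferInstanceAs (IsClosedImmersion (pullback.snd _ _))
      let sec := pullback.lift (f := pullback.fst x.left j.left) (g := T.left.affineCover.f c)
        (pullback.lift (T.left.affineCover.f c) z.left (congrArg Over.Hom.left hz).symm) (𝟙 _)
        (by rw [pullback.lift_fst, Category.id_comp])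
      haveI : IsSplitEpi (Scheme.Cover.pullbackHom T.left.affineCover (pullback.fst x.left j.left) c) :=
        IsSplitEpi.mk' ⟨sec, pullback.lift_snd _ _ _⟩
      exact isIso_of_mono_of_isSplitEpi _
    refine ⟨Over.homMk (inv (pullback.fst x.left j.left) ≫ pullback.snd _ _) ?_, Over.OverMorphism.ext ?_⟩
    · rw [← Over.w j, Category.assoc, ← Category.assoc (pullback.snd _ _), ← pullback.condition, Category.assoc,
        IsIso.inv_hom_id_assoc, Over.w x]
    · simp [← pullback.condition]
  · haveI : IsAffine Z.left := inferInstanceAs (IsAffine (Spec _))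
    obtain ⟨φ, hφ⟩ := (haff Z j).mpr ⟨𝟙 _, Category.id_comp _⟩
    refine ⟨(M ◁ z) ≫ φ, ?_⟩
    rw [← whisker_exchange_assoc, hφ, ← MonoidalCategory.whiskerLeft_comp_assoc, hz]

/-- Morphisms to a separated scheme agreeing on a schematically dense part agree. -/
theorem ext_of_dominant [IsSeparated X.hom] {W V : Over (Spec (CommRingCat.of k))} (w : W ⟶ V)
    [IsSchemeTheoreticallyDominant w.left] (p q : V ⟶ X) (h : w ≫ p = w ≫ q) : p = q := by
  let d : X ⟶ X ⊗ X := lift (𝟙 X) (𝟙 X)
  haveI : IsClosedImmersion d.left := by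
    rw [show d.left = pullback.diagonal X.hom from pullback.hom_ext (by simp [d]; exact pullback.lift_fst _ _ _) (by simp [d]; exact pullback.lift_snd _ _ _)]
    infer_instance
  obtain ⟨h', hh⟩ := H23.AMonExt.exists_lift_over w d (lift p q) (w ≫ p) (by simp [d, h])
  have h1 := congrArg (fun r => r ≫ fst X X) hh
  have h2 := congrArg (fun r => r ≫ snd X X) hh
  simp [d] at h1 h2
  rw [← h1, ← h2]

/-- For a separated scheme an extension of an orbit map is automatically equivariant. -/
theorem equivariant_of_orbit [MonObj M] [MonObj G] (i : G ⟶ M) [IsMonHom i] [IsSchemeTheoreticallyDominant i.left]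
    [QuasiCompact i.left] [IsSeparated X.hom] (a : MonAct G X) {T : Over (Spec (CommRingCat.of k))} (x : T ⟶ X)
    (φ : M ⊗ T ⟶ X) (hφ : (i ▷ T) ≫ φ = (G ◁ x) ≫ a.act) :
    MonAct.IsEquivariant (((MonAct.regular M).restrict i).prod (MonAct.trivial G T)) a φ ∧
      lift (toUnit T ≫ η[M]) (𝟙 T) ≫ φ = x := by
  have hφ' : ∀ (W : Over (Spec (CommRingCat.of k))) (g : W ⟶ G) (t : W ⟶ T),
      lift (g ≫ i) t ≫ φ = lift g (t ≫ x) ≫ a.act := fun W g t => by
    rw [← lift_whiskerRight_assoc, hφ, lift_whiskerLeft_assoc]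
  refine ⟨?_, ?_⟩
  · rw [MonAct.mem_eqvHom_iff]
    intro W g b t
    let F : M ⊗ (G ⊗ T) ⟶ X :=
      lift (((snd M (G ⊗ T) ≫ fst G T) ≫ i) * fst M (G ⊗ T)) (snd M (G ⊗ T) ≫ snd G T) ≫ φ
    let K : M ⊗ (G ⊗ T) ⟶ X :=
      lift (snd M (G ⊗ T) ≫ fst G T) (lift (fst M (G ⊗ T)) (snd M (G ⊗ T) ≫ snd G T) ≫ φ) ≫ a.act
    have hFK : F = K := by
      haveI := H23.AMonExt.stDominant_whiskerRight_field i (G ⊗ T)
      refine ext_of_dominant (i ▷ (G ⊗ T)) _ _ ?_
      apply hom_ext_lift₂
      intro W' c w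
      simp only [F, K, Category.assoc, lift_whiskerRight_assoc, comp_lift_assoc, MonObj.comp_mul,
        lift_fst_assoc, lift_snd_assoc, lift_fst]
      rw [← Category.assoc w (fst _ _), ← MonObj.mul_comp, hφ', hφ', MonAct.lift_mul_act]
    have h2 := congrArg (lift b (lift g t) ≫ ·) hFK
    simp only [F, K, Category.assoc, comp_lift_assoc, MonObj.comp_mul, lift_fst_assoc, lift_snd_assoc,
      lift_fst, lift_snd] at h2
    rw [MonAct.lift_restrict_act, MonAct.lift_regular_act]
    exact h2
  · have h1 : (1 : T ⟶ G) ≫ i = 1 := MonObj.one_comp _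
    rw [← Hom.one_def, ← h1, hφ', MonAct.lift_one_act, Category.id_comp]

theorem orbit_of_equivariant [MonObj M] [MonObj G] (i : G ⟶ M) [IsMonHom i] (a : MonAct G X)
    {T : Over (Spec (CommRingCat.of k))} (φ : M ⊗ T ⟶ X)
    (h : MonAct.IsEquivariant (((MonAct.regular M).restrict i).prod (MonAct.trivial G T)) a φ) :
    (i ▷ T) ≫ φ = (G ◁ (lift (toUnit T ≫ η[M]) (𝟙 T) ≫ φ)) ≫ a.act := by
  apply hom_ext_lift₂
  intro W g t
  rw [lift_whiskerRight_assoc, lift_whiskerLeft_assoc]
  have h1 := (MonAct.mem_eqvHom_iff φ).mp h W g 1 t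
  rw [MonAct.lift_restrict_act, MonAct.lift_regular_act, _root_.mul_one] at h1
  rw [h1]
  congr 2
  rw [comp_lift_assoc, Category.comp_id, ← Category.assoc t, comp_toUnit, ← Hom.one_def]

end Groth.Agent.MagnetLib.MonExt
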