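import Groth.Agent.MagnetLib.MonExt.Rep
import Groth.Agent.MagnetLib.Rep.AffineDescend
import Groth.Agent.H28.StableOpen
import Groth.Agent.AlgSpDec.OpenGlue
import Groth.Agent.S18294

/-!
# Representability of extended orbit maps by gluing along stable affine opens
-/

set_option autoImplicit false
set_option linter.style.haveILetI false

universe u

open CategoryTheory CategoryTheory.Limits MonoidalCategory CartesianMonoidalCategory MonObj AlgebraicGeometry
open Opposite Magnet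

namespace Groth.Agent.MagnetLib.MonExt

/-- The action restricted to a stable open subscheme. -/
theorem exists_openAct {S : Scheme.{u}} {A X : Over S} [MonObj A] (a : MonAct A X) (V : X.left.Opens)
    (hV : (snd A X).left ⁻¹ᵁ V ≤ a.act.left ⁻¹ᵁ V) :
    ∃ aV : MonAct A (Over.mk (V.ι ≫ X.hom)),
      MonAct.IsEquivariant aV a (Over.homMk V.ι rfl : Over.mk (V.ι ≫ X.hom) ⟶ X) := by
  let Vo : Over S := Over.mk (V.ι ≫ X.hom)
  let jv : Vo ⟶ X := Over.homMk V.ι rfl
  haveI : IsOpenImmersion jv.left := inferInstanceAs (IsOpenImmersion V.ι)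
  haveI : Mono jv := (Over.forget S).mono_of_mono_map (inferInstanceAs (Mono jv.left))
  obtain ⟨act, hact⟩ := H28.StableOpen.exists_lift jv ((A ◁ jv) ≫ a.act) (by
    rintro _ ⟨y, rfl⟩
    rw [show Set.range jv.left = Set.range V.ι from rfl, Scheme.Opens.range_ι]
    refine hV (show (snd A X).left ((A ◁ jv).left y) ∈ V from ?_)
    rw [← Scheme.Hom.comp_apply, ← Over.comp_left, whiskerLeft_snd, Over.comp_left, Scheme.Hom.comp_apply]
    exact ((snd A Vo).left y).2)
  refine ⟨{ act := act, one_act := ?_, mul_act := ?_ }, hact⟩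
  · rw [← cancel_mono jv, Category.assoc, hact, ← whisker_exchange_assoc, a.one_act, leftUnitor_naturality]
  · rw [← cancel_mono jv, Category.assoc, Category.assoc, Category.assoc, hact, ← whiskerLeft_comp_assoc]
    erw [hact]
    rw [whiskerLeft_comp, Category.assoc, ← whisker_exchange_assoc, a.mul_act, associator_naturality_right_assoc]

variable {k : Type u} [Field k] {M G X : Over (Spec (CommRingCat.of k))}

section General

variable {S : Scheme.{u}} {A B X Y : Over S} [MonObj A] (ρ : MonAct A B) (aX : MonAct A X) (aY : MonAct A Y)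

/-- A point of the functor over `T` is in the chart of a stable open over the preimage of the open. -/
theorem exists_chart (j : Y ⟶ X) [IsOpenImmersion j.left] (hj : MonAct.IsEquivariant aY aX j) (e : 𝟙_ (Over S) ⟶ B)
    (he : H28.StableOpen.StablePt ρ e) {Z : Over S} (eZ : (MonAct.eqvHom ρ aY).RepresentableBy Z) {T : Over S}
    (φ : (MonAct.eqvHom ρ aX).obj (op T)) :
    ∃ (To : Over S) (z : To ⟶ Z) (u : To ⟶ T), IsOpenImmersion u.left ∧
      IsPullback (yoneda.map z) (yoneda.map u)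
        ((Functor.representableByEquiv eZ).hom ≫ MonAct.eqvHom.postcomp ρ j hj) (yonedaEquiv.symm φ) ∧
      (lift (toUnit T ≫ e) (𝟙 T) ≫ φ.1).left ⁻¹' Set.range j.left ⊆ Set.range u.left := by
  haveI : Mono j := (Over.forget S).mono_of_mono_map (inferInstanceAs (Mono j.left))
  obtain ⟨x, hxdef⟩ : ∃ x, x = lift (toUnit T ≫ e) (𝟙 T) ≫ φ.1 := ⟨_, rfl⟩
  rw [← hxdef]
  let Ω : T.left.Opens := x.left ⁻¹ᵁ j.left.opensRange
  let u : Over.mk (Ω.ι ≫ T.hom) ⟶ T := Over.homMk Ω.ι rfl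
  haveI : IsOpenImmersion u.left := inferInstanceAs (IsOpenImmersion Ω.ι)
  haveI : Mono u := (Over.forget _).mono_of_mono_map (inferInstanceAs (Mono u.left))
  have hpt : ∀ (V : Over S) (t : V ⟶ T), lift (toUnit V ≫ e) (𝟙 V) ≫ (B ◁ t) ≫ φ.1 = t ≫ x := fun V t => by
    rw [hxdef, lift_whiskerLeft_assoc, comp_lift_assoc, comp_toUnit_assoc, Category.comp_id, Category.id_comp]
  obtain ⟨q, hq⟩ := H28.StableOpen.exists_lift j (u ≫ x) (by
    rintro _ ⟨y, rfl⟩
    exact y.2)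
  have hφo : MonAct.IsEquivariant (ρ.prod (MonAct.trivial A (Over.mk (Ω.ι ≫ T.hom)))) aX ((B ◁ u) ≫ φ.1) :=
    ((MonAct.eqvHom ρ aX).map u.op φ).2
  obtain ⟨φ', hφ'⟩ := H28.StableOpen.exists_factor j hj he _ hφo q ((hpt _ u).trans hq.symm)
  have heq : MonAct.IsEquivariant (ρ.prod (MonAct.trivial A (Over.mk (Ω.ι ≫ T.hom)))) aY φ' := by
    rw [MonAct.mem_eqvHom_iff]
    intro V g b t
    have h2 : aY.act ≫ j = (A ◁ j) ≫ aX.act := hj
    rw [← cancel_mono j, Category.assoc, Category.assoc, h2, lift_whiskerLeft_assoc, Category.assoc, hφ']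
    exact (MonAct.mem_eqvHom_iff _).mp hφo V g b t
  obtain ⟨z, hz⟩ : ∃ z, eZ.homEquiv z = ⟨φ', heq⟩ := ⟨_, eZ.homEquiv.apply_symm_apply _⟩
  refine ⟨_, z, u, inferInstance, IsPullback.of_forall_isPullback_app fun V => ?_, fun t ht => ⟨⟨t, ht⟩, rfl⟩⟩
  rw [Types.isPullback_iff]
  refine ⟨?_, fun v v' h => (cancel_mono u).mp h.2, fun (ζ : V.unop ⟶ Z) (t : V.unop ⟶ T) h => ?_⟩
  · ext (v : V.unop ⟶ _)
    apply Subtype.ext
    show (eZ.homEquiv (v ≫ z)).1 ≫ j = (B ◁ (v ≫ u)) ≫ φ.1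
    rw [eZ.homEquiv_comp, hz]
    show ((B ◁ v) ≫ φ') ≫ j = _
    rw [Category.assoc, hφ', MonoidalCategory.whiskerLeft_comp, Category.assoc]
  · have h' : (eZ.homEquiv ζ).1 ≫ j = (B ◁ t) ≫ φ.1 := congrArg Subtype.val h
    have hrange : Set.range t.left ⊆ Set.range u.left := by
      rintro _ ⟨y, rfl⟩
      rw [show Set.range u.left = Set.range Ω.ι from rfl, Scheme.Opens.range_ι]
      show x.left (t.left y) ∈ j.left.opensRange
      rw [← Scheme.Hom.comp_apply, ← Over.comp_left, ← hpt, ← h', ← Category.assoc, Over.comp_left,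
        Scheme.Hom.comp_apply]
      exact ⟨_, rfl⟩
    obtain ⟨v, hv⟩ := H28.StableOpen.exists_lift u t hrange
    refine ⟨v, ?_, hv⟩
    show v ≫ z = ζ
    apply eZ.homEquiv.injective
    refine Subtype.ext ((cancel_mono j).mp ?_)
    rw [h', eZ.homEquiv_comp, hz]
    show ((B ◁ v) ≫ φ') ≫ j = _
    rw [Category.assoc, hφ', ← hv, MonoidalCategory.whiskerLeft_comp, Category.assoc]

open AlgSp in
/-- A cartesian square of presheaves gives one of spaces. -/
theorem isPullback_mkSp {F : (Over S)ᵒᵖ ⥤ Type u} (hF : Presheaf.IsSheaf (AlgSp.J S) F) {Z T To : Over S}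
    (ψ : yoneda.obj Z ⟶ F) (g : (yon S).obj T ⟶ Rep.mkSp F hF) (z : To ⟶ Z) (v : To ⟶ T)
    (h : IsPullback (yoneda.map z) (yoneda.map v) ψ (yonedaEquiv.symm (g.hom.app (op T) ⟨𝟙 T⟩).down)) :
    IsPullback ((yon S).map z) ((yon S).map v)
      (ObjectProperty.homMk (((Functor.whiskeringRight (Over S)ᵒᵖ (Type u) (Type (u + 1))).obj
        uliftFunctor.{u + 1, u}).map ψ) : (yon S).obj Z ⟶ Rep.mkSp F hF) g := by
  have hg : g = ObjectProperty.homMk (((Functor.whiskeringRight (Over S)ᵒᵖ (Type u) (Type (u + 1))).obj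
      uliftFunctor.{u + 1, u}).map (yonedaEquiv.symm (g.hom.app (op T) ⟨𝟙 T⟩).down)) := by
    apply ObjectProperty.hom_ext
    ext V ⟨t⟩
    have h0 := ConcreteCategory.congr_hom (g.hom.naturality t.op) ⟨𝟙 T⟩
    have h1 : ((yon S).obj T).obj.map t.op ⟨𝟙 T⟩ = ⟨t⟩ := congrArg ULift.up (Category.comp_id t)
    exact (congrArg (g.hom.app (op V.unop)) h1).symm.trans h0
  have hW := h.map ((Functor.whiskeringRight (Over S)ᵒᵖ (Type u) (Type (u + 1))).obj uliftFunctor.{u + 1, u})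
  rw [hg]
  exact IsPullback.of_map (sheafToPresheaf _ _) (ObjectProperty.hom_ext _ hW.w) hW

end General

open AlgSp Groth.Agent.AlgSpLib Groth.Agent.AlgSpPts in
/-- Representability of the functor of extended orbit maps. -/
theorem exists_representableBy_glue [MonObj M] [MonObj G] [IsAffine M.left] [IsAffine G.left] (i : G ⟶ M)
    [IsMonHom i] [IsSchemeTheoreticallyDominant i.left] (o : 𝟙_ (Over (Spec (CommRingCat.of k))) ⟶ M)
    (ho : ∀ (T : Over (Spec (CommRingCat.of k))) (m : T ⟶ M), m * (toUnit T ≫ o) = toUnit T ≫ o)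
    (hst : H28.StableOpen.StablePt ((MonAct.regular M).restrict i) o) (a : MonAct G X)
    (hcov : ∀ (T : Over (Spec (CommRingCat.of k))) (x : (MonAct.fixedPsh a).obj (op T)),
      ⨆ (U : X.left.Opens) (_ : IsAffineOpen U ∧ (snd G X).left ⁻¹ᵁ U ≤ a.act.left ⁻¹ᵁ U), x.1.left ⁻¹ᵁ U = ⊤) :
    ∃ Z : Over (Spec (CommRingCat.of k)),
      Nonempty ((MonAct.eqvHom ((MonAct.regular M).restrict i) a).RepresentableBy Z) := by
  let Ix := {U : X.left.Opens // IsAffineOpen U ∧ (snd G X).left ⁻¹ᵁ U ≤ a.act.left ⁻¹ᵁ U}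
  let Uo : Ix → Over (Spec (CommRingCat.of k)) := fun U => Over.mk (U.1.ι ≫ X.hom)
  let ju : ∀ U : Ix, Uo U ⟶ X := fun U => Over.homMk U.1.ι rfl
  haveI : ∀ U : Ix, IsOpenImmersion (ju U).left := fun U => inferInstanceAs (IsOpenImmersion U.1.ι)
  haveI : ∀ U : Ix, Mono (ju U) := fun U => (Over.forget _).mono_of_mono_map (inferInstanceAs (Mono (ju U).left))
  choose aU haU using fun U : Ix => exists_openAct a U.1 U.2.2
  haveI : ∀ U : Ix, IsAffine (Uo U).left := fun U => U.2.1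
  choose Z jZ eZ hjZ hval using fun U : Ix => exists_representableBy i (aU U)
  let F := MonAct.eqvHom ((MonAct.regular M).restrict i) a
  let W := (Functor.whiskeringRight (Over (Spec (CommRingCat.of k)))ᵒᵖ (Type u) (Type (u + 1))).obj uliftFunctor.{u + 1, u}
  let hF := S18294.result (Spec (CommRingCat.of k)) G M X ((MonAct.regular M).restrict i) a
  let ψ : ∀ U : Ix, yoneda.obj (Z U) ⟶ F := fun U =>
    (Functor.representableByEquiv (eZ U)).hom ≫ MonAct.eqvHom.postcomp _ (ju U) (haU U)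
  let jj : ∀ U : Ix, (yon (Spec (CommRingCat.of k))).obj (Z U) ⟶ Rep.mkSp F hF := fun U =>
    ObjectProperty.homMk (W.map (ψ U))
  have hchart : ∀ (U : Ix) (T : Over (Spec (CommRingCat.of k))) (g : (yon _).obj T ⟶ Rep.mkSp F hF),
      ∃ (To : Over (Spec (CommRingCat.of k))) (z : To ⟶ Z U) (u : To ⟶ T),
        IsOpenImmersion u.left ∧ IsPullback ((yon _).map z) ((yon _).map u) (jj U) g ∧
        (lift (toUnit T ≫ o) (𝟙 T) ≫ (g.hom.app (op T) ⟨𝟙 T⟩).down.1).left ⁻¹' Set.range (ju U).left ⊆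
          Set.range u.left := by
    intro U T g
    obtain ⟨To, z, u, hu, hsq, hr⟩ := exists_chart _ a (aU U) (ju U) (haU U) o hst (eZ U) (g.hom.app (op T) ⟨𝟙 T⟩).down
    exact ⟨To, z, u, hu, isPullback_mkSp hF (ψ U) g z u hsq, hr⟩
  have hj : ∀ U, RepWith @IsOpenImmersion (jj U) := fun U => MorphismProperty.relative.of_exists fun T g => by
    obtain ⟨To, z, u, hu, hsq, -⟩ := hchart U T g
    exact ⟨To, (yon _).map z, u, hsq, hu⟩
  have hc : ∀ p : Points (Rep.mkSp F hF), ∃ U v, Points.ofPt (jj U) v = p := by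
    intro p
    obtain ⟨T, g, t, -, rfl⟩ := exists_ofPt_eq p
    let φ : F.obj (op T) := (g.hom.app (op T) ⟨𝟙 T⟩).down
    let x := lift (toUnit T ≫ o) (𝟙 T) ≫ φ.1
    have hfix : ∀ (T' : Over (Spec (CommRingCat.of k))) (t' : T' ⟶ T) (g' : T' ⟶ G),
        lift g' (t' ≫ x) ≫ a.act = t' ≫ x := fun T' t' g' => by
      have h := (MonAct.mem_eqvHom_iff φ.1).mp φ.2 T' g' (toUnit T' ≫ o) t'
      rw [MonAct.lift_restrict_act, MonAct.lift_regular_act, ho] at h
      have hx : t' ≫ x = lift (toUnit T' ≫ o) t' ≫ φ.1 := by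
        show t' ≫ lift (toUnit T ≫ o) (𝟙 T) ≫ φ.1 = _
        rw [comp_lift_assoc, comp_toUnit_assoc, Category.comp_id]
      rw [hx]
      exact h.symm
    have ht : t ∈ (⊤ : T.left.Opens) := trivial
    rw [← hcov T ⟨x, hfix⟩] at ht
    obtain ⟨U, hU⟩ := TopologicalSpace.Opens.mem_iSup.mp ht
    obtain ⟨hUmem, htU⟩ := TopologicalSpace.Opens.mem_iSup.mp hU
    obtain ⟨To, z, u, -, hsq, hrange⟩ := hchart ⟨U, hUmem⟩ T g
    obtain ⟨w, rfl⟩ := hrange (show _ ∈ Set.range U.ι by rw [Scheme.Opens.range_ι]; exact htU)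
    exact ⟨⟨U, hUmem⟩, z.left w, by rw [← ofPt_comp, hsq.w, ofPt_comp]⟩
  obtain ⟨Q, ⟨e⟩, -⟩ := Groth.Agent.AlgSpDec.exists_iso_of_open_cover Z jj hj hc
  haveI : IsIso e.hom.hom := inferInstanceAs (IsIso ((sheafToPresheaf _ _).map e.hom))
  exact ⟨Q, ⟨{
    homEquiv := fun {T} => Equiv.ulift.symm.trans (((asIso e.hom.hom).app (op T)).toEquiv.trans Equiv.ulift)
    homEquiv_comp := fun {T T'} t z => congrArg ULift.down (ConcreteCategory.congr_hom (e.hom.hom.naturality t.op) ⟨z⟩) }⟩⟩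

end Groth.Agent.MagnetLib.MonExt
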