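import Groth.Agent.MagnetLib.MonExt.Affine

/-!
# Representability of the functor of extended orbit maps, affine case
-/

set_option autoImplicit false

universe u

open CategoryTheory CategoryTheory.Limits MonoidalCategory CartesianMonoidalCategory MonObj AlgebraicGeometry
open Opposite Magnet

namespace Groth.Agent.MagnetLib.MonExt

variable {k : Type u} [Field k] {M G X : Over (Spec (CommRingCat.of k))}

theorem exists_representableBy [MonObj M] [MonObj G] [IsAffine M.left] [IsAffine G.left] [IsAffine X.left] (i : G ⟶ M)
    [IsMonHom i] [IsSchemeTheoreticallyDominant i.left] (a : MonAct G X) :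
    ∃ (Z : Over (Spec (CommRingCat.of k))) (j : Z ⟶ X)
      (e : (MonAct.eqvHom ((MonAct.regular M).restrict i) a).RepresentableBy Z),
      IsClosedImmersion j.left ∧ ∀ (T : Over (Spec (CommRingCat.of k))) (z : T ⟶ Z),
        (MonAct.eqvHom.evalAt ((MonAct.regular M).restrict i) a η[M]).app (op T) (e.homEquiv z) = z ≫ j := by
  obtain ⟨Z, j, hj, hZ⟩ := exists_closed i a.act
  haveI := hj
  haveI : IsAffineHom i.left := isAffineHom_of_isAffine _
  haveI : IsAffineHom X.hom := isAffineHom_of_isAffine _
  haveI : Mono j := H23.AMonExt.mono_of_isClosedImmersion j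
  choose φ hφ using fun (T : Over (Spec (CommRingCat.of k))) (z : T ⟶ Z) => (hZ T (z ≫ j)).mpr ⟨z, rfl⟩
  choose ζ hζ using fun (T : Over (Spec (CommRingCat.of k))) (y : (MonAct.eqvHom ((MonAct.regular M).restrict i) a).obj (op T)) =>
    (hZ T _).mp ⟨y.1, orbit_of_equivariant i a y.1 y.2⟩
  have hval := fun T z => (equivariant_of_orbit i a (z ≫ j) (φ T z) (hφ T z)).2
  let e : (MonAct.eqvHom ((MonAct.regular M).restrict i) a).RepresentableBy Z :=
    { homEquiv := fun {T} =>
        { toFun := fun z => ⟨φ T z, (equivariant_of_orbit i a _ _ (hφ T z)).1⟩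
          invFun := fun y => ζ T y
          left_inv := fun z => (cancel_mono j).mp ((hζ T _).trans (hval T z))
          right_inv := fun y => Subtype.ext (by
            haveI := H23.AMonExt.stDominant_whiskerRight_field i T
            refine ext_of_dominant (i ▷ T) _ _ ((hφ T _).trans ?_)
            rw [hζ]
            exact (orbit_of_equivariant i a y.1 y.2).symm) }
      homEquiv_comp := fun {T T'} t z => Subtype.ext (by
        show φ T (t ≫ z) = (M ◁ t) ≫ φ T' z
        haveI := H23.AMonExt.stDominant_whiskerRight_field i T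
        refine ext_of_dominant (i ▷ T) _ _ ((hφ T _).trans ?_)
        rw [← whisker_exchange_assoc, hφ, ← MonoidalCategory.whiskerLeft_comp_assoc, Category.assoc]) }
  exact ⟨Z, j, e, hj, fun T z => hval T z⟩

end Groth.Agent.MagnetLib.MonExt
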